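import Mathlib.LinearAlgebra.Matrix.SchurComplement
import Mathlib.LinearAlgebra.Matrix.Charpoly.Basic
import Mathlib.Data.Matrix.Block

set_option linter.unusedSectionVars false
set_option linter.unusedVariables false
set_option linter.unusedSimpArgs false
set_option autoImplicit false
set_option linter.style.haveILetI false
set_option maxHeartbeats 400000

noncomputable section

namespace Groth.Agent.Lib.Helper6.Skew

open Matrix

universe u u' v

variable {K : Type v} [Field K]

/-- skew-symmetric matrices -/
def IsSkew {ι : Type u} (M : Matrix ι ι K) : Prop := M.transpose = -M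

lemma IsSkew.apply {ι : Type u} {M : Matrix ι ι K} (hM : IsSkew M) (i j : ι) :
    M j i = - M i j := by
  have := congrFun (congrFun hM i) j
  simpa using this

lemma IsSkew.diag {ι : Type u} {M : Matrix ι ι K} (h2 : (2 : K) ≠ 0) (hM : IsSkew M) (i : ι) :
    M i i = 0 := by
  have h := hM.apply i i
  have : (2 : K) * M i i = 0 := by
    rw [two_mul]
    nth_rewrite 1 [h]
    exact neg_add_cancel _
  rcases mul_eq_zero.1 this with h | h
  · exact absurd h h2
  · exact h

lemma IsSkew.reindex {ι : Type u} {ι' : Type u'} {M : Matrix ι ι K} (hM : IsSkew M) (e : ι ≃ ι') :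
    IsSkew (Matrix.reindex e e M) := by
  ext a b
  have := hM.apply (e.symm a) (e.symm b)
  simpa [IsSkew] using this

lemma det_fin_two_skew (h2 : (2 : K) ≠ 0) (M : Matrix (Fin 2) (Fin 2) K) (hM : IsSkew M) :
    M.det = (M 0 1) ^ 2 := by
  rw [Matrix.det_fin_two, hM.diag h2 0, hM.diag h2 1, hM.apply 0 1]
  ring

lemma ne_zero_fin_two_skew (h2 : (2 : K) ≠ 0) (M : Matrix (Fin 2) (Fin 2) K) (hM : IsSkew M)
    (hne : M ≠ 0) : M 0 1 ≠ 0 := by
  intro h
  apply hne
  ext a b
  fin_cases a <;> fin_cases b
  · exact hM.diag h2 0
  · exact h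
  · change M 1 0 = 0
    rw [hM.apply 0 1, h, neg_zero]
  · exact hM.diag h2 1

lemma card_two_skew (h2 : (2 : K) ≠ 0) {ι : Type u} [Fintype ι] [DecidableEq ι]
    (hc : Fintype.card ι = 2) (M : Matrix ι ι K) (hM : IsSkew M) :
    IsSquare M.det ∧ (M ≠ 0 → M.det ≠ 0) := by
  let e : ι ≃ Fin 2 := Fintype.equivFinOfCardEq hc
  have hdet : (Matrix.reindex e e M).det = M.det := Matrix.det_reindex_self e M
  have hsk := hM.reindex e
  have h1 := det_fin_two_skew h2 _ hsk
  constructor
  · rw [← hdet, h1]
    exact ⟨_, sq _⟩
  · intro hne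
    rw [← hdet, h1]
    apply pow_ne_zero
    apply ne_zero_fin_two_skew h2 _ hsk
    intro h0
    apply hne
    have := congrArg (Matrix.reindex e.symm e.symm) h0
    simpa using this

theorem isSquare_det_of_skew (h2 : (2 : K) ≠ 0) :
    ∀ (n : ℕ) (ι : Type u) [Fintype ι] [DecidableEq ι], Fintype.card ι = n →
      ∀ M : Matrix ι ι K, IsSkew M → IsSquare M.det := by
  intro n
  induction n using Nat.strong_induction_on with
  | _ n ih =>
    intro ι _ _ hcard M hM
    by_cases hM0 : M = 0
    · subst hM0
      by_cases hι : IsEmpty ι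
      · rw [Matrix.det_isEmpty]; exact ⟨1, by simp⟩
      · rw [not_isEmpty_iff] at hι
        haveI := hι
        rw [Matrix.det_zero]; exact ⟨0, by simp⟩
    · have hex : ∃ i j, M i j ≠ 0 := by
        by_contra hcon
        push_neg at hcon
        apply hM0
        ext i j
        exact hcon i j
      obtain ⟨i, j, hij⟩ := hex
      have hne : i ≠ j := by
        rintro rfl
        exact hij (hM.diag h2 i)
      let p : ι → Prop := fun k => k = i ∨ k = j
      let e : ι ≃ {a // p a} ⊕ {a // ¬ p a} := (Equiv.sumCompl p).symm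
      have hdet : (Matrix.reindex e e M).det = M.det := Matrix.det_reindex_self e M
      have hsk := hM.reindex e
      set M' := Matrix.reindex e e M with hM'
      have hblocks := Matrix.fromBlocks_toBlocks M'
      set A := M'.toBlocks₁₁ with hA
      set B := M'.toBlocks₁₂ with hB
      set C := M'.toBlocks₂₁ with hC
      set D := M'.toBlocks₂₂ with hD
      -- skewness of blocks
      have hsk' : (Matrix.fromBlocks A B C D).transpose = -(Matrix.fromBlocks A B C D) := by
        rw [hblocks]; exact hsk
      rw [Matrix.fromBlocks_transpose, Matrix.fromBlocks_neg, Matrix.fromBlocks_inj] at hsk'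
      obtain ⟨hAt, hCt, hBt, hDt⟩ := hsk'
      -- card
      have hcp : Fintype.card {a // p a} = 2 := by
        rw [Fintype.card_subtype]
        have : (Finset.univ.filter fun k => p k) = {i, j} := by
          ext k
          simp [p]
        rw [this, Finset.card_pair hne]
      have hcq : Fintype.card {a // ¬ p a} = n - 2 := by
        rw [Fintype.card_subtype_compl, hcp, hcard]
      have hn2 : 2 ≤ n := by
        rw [← hcard]
        calc 2 = Fintype.card {a // p a} := hcp.symm
          _ ≤ Fintype.card ι := Fintype.card_subtype_le p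
      -- A
      have hAsk : IsSkew A := hAt
      have hAne : A ≠ 0 := by
        intro h0
        have := congrFun (congrFun h0 ⟨i, Or.inl rfl⟩) ⟨j, Or.inr rfl⟩
        apply hij
        simpa [A, M', e, Matrix.toBlocks₁₁] using this
      obtain ⟨hAsq, hAdet⟩ := card_two_skew h2 hcp A hAsk
      have hAdet' := hAdet hAne
      haveI : Invertible A := Matrix.invertibleOfIsUnitDet A (isUnit_iff_ne_zero.2 hAdet')
      have hschur := Matrix.det_fromBlocks₁₁ A B C D
      -- skewness of Schur complement
      have hinvT : (⅟A).transpose = -⅟A := by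
        rw [Matrix.invOf_eq_nonsing_inv, Matrix.transpose_nonsing_inv, hAt]
        apply Matrix.inv_eq_left_inv
        rw [neg_mul_neg]
        exact Matrix.nonsing_inv_mul A (isUnit_iff_ne_zero.2 hAdet')
      have hS : IsSkew (D - C * ⅟A * B) := by
        unfold IsSkew
        rw [Matrix.transpose_sub, Matrix.transpose_mul, Matrix.transpose_mul, hDt, hBt, hCt, hinvT]
        simp only [Matrix.neg_mul, Matrix.mul_neg, neg_neg, Matrix.mul_assoc]
        abel
      have hSsq : IsSquare (D - C * ⅟A * B).det :=
        ih (n - 2) (by omega) {a // ¬ p a} hcq _ hS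
      rw [← hdet, ← hblocks, hschur]
      exact hAsq.mul hSsq

end Groth.Agent.Lib.Helper6.Skew
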