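import Groth.Agent.Lib.Helper6.Skew.Main

set_option linter.unusedSectionVars false
set_option linter.unusedVariables false
set_option linter.unusedSimpArgs false
set_option autoImplicit false
set_option linter.style.haveILetI false
set_option maxHeartbeats 400000

noncomputable section

namespace Groth.Agent.Lib.Helper6.Skew

open Matrix MvPolynomial

variable (m : ℕ)

lemma skew_of_comm {S : Type*} [CommRing S] (A : Matrix (Idx m) (Idx m) S)
    (h : A.transpose * Jmat S m = Jmat S m * A) :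
    (Jmat S m * A).transpose = -(Jmat S m * A) := by
  rw [Matrix.transpose_mul, Jmat_transpose, Matrix.mul_neg, h]

lemma det_neg_idx {S : Type*} [CommRing S] (A : Matrix (Idx m) (Idx m) S) : (-A).det = A.det := by
  rw [Matrix.det_neg, Fintype.card_sum, Fintype.card_fin, ← two_mul, pow_mul]
  simp

theorem part2 :
    ∃ Q : MvPolynomial (Idx m × Idx m) ℂ,
      ∀ A : Matrix (Idx m) (Idx m) ℂ,
        A.transpose * Matrix.fromBlocks 0 1 (-1) 0 = Matrix.fromBlocks 0 1 (-1) 0 * A →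
        A.det = (MvPolynomial.eval (fun ij => A ij.1 ij.2) Q) ^ 2 := by
  obtain ⟨q, hq⟩ := exists_q ℂ m 0 (1 / 2) (by norm_num)
  have hε : (Jmat ℂ m).det ≠ 0 := (det_Jmat_isUnit ℂ m).ne_zero
  obtain ⟨s, hs⟩ := IsAlgClosed.exists_pow_nat_eq ((Jmat ℂ m).det)⁻¹ (n := 2) (by norm_num)
  refine ⟨C s * q, fun A hA => ?_⟩
  have h1 := hq A (skew_of_comm m A hA)
  rw [zero_smul, zero_sub, det_neg_idx] at h1
  rw [map_mul, MvPolynomial.eval_C, mul_pow, hs, ← h1, ← mul_assoc, inv_mul_cancel₀ hε, one_mul]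

theorem part1 :
    ∃ P : MvPolynomial (Idx m × Idx m) (Polynomial ℂ),
      ∀ A : Matrix (Idx m) (Idx m) ℂ,
        A.transpose * Matrix.fromBlocks 0 1 (-1) 0 = Matrix.fromBlocks 0 1 (-1) 0 * A →
        A.charpoly = (MvPolynomial.eval (fun ij => Polynomial.C (A ij.1 ij.2)) P) ^ 2 := by
  have h2half : (2 : Polynomial ℂ) * Polynomial.C (1 / 2 : ℂ) = 1 := by
    have h2 : (2 : Polynomial ℂ) = Polynomial.C (2 : ℂ) :=
      (map_ofNat (Polynomial.C : ℂ →+* Polynomial ℂ) 2).symm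
    rw [h2, ← map_mul]
    norm_num
  obtain ⟨q, hq⟩ := exists_q (Polynomial ℂ) m Polynomial.X (Polynomial.C (1 / 2 : ℂ)) h2half
  have hε : (Jmat ℂ m).det ≠ 0 := (det_Jmat_isUnit ℂ m).ne_zero
  obtain ⟨s, hs⟩ := IsAlgClosed.exists_pow_nat_eq ((Jmat ℂ m).det)⁻¹ (n := 2) (by norm_num)
  refine ⟨C (Polynomial.C s) * q, fun A hA => ?_⟩
  have hA' : (A.map Polynomial.C).transpose * Jmat (Polynomial ℂ) m =
      Jmat (Polynomial ℂ) m * A.map Polynomial.C := by
    rw [← Jmat_map ℂ m (Polynomial.C : ℂ →+* Polynomial ℂ), ← Matrix.transpose_map,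
      ← Matrix.map_mul, ← Matrix.map_mul]
    congr 1
  have h1 := hq (A.map Polynomial.C) (skew_of_comm m _ hA')
  have hdetJ : (Jmat (Polynomial ℂ) m).det = Polynomial.C (Jmat ℂ m).det := by
    rw [← Jmat_map ℂ m (Polynomial.C : ℂ →+* Polynomial ℂ), ← RingHom.mapMatrix_apply,
      ← RingHom.map_det]
  have hchar : ((Polynomial.X : Polynomial ℂ) • (1 : Matrix (Idx m) (Idx m) (Polynomial ℂ)) -
      A.map Polynomial.C).det = A.charpoly := by
    unfold Matrix.charpoly Matrix.charmatrix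
    congr 1
    rw [Matrix.smul_one_eq_diagonal]
    rfl
  rw [hchar, hdetJ] at h1
  have h2 : (MvPolynomial.eval (fun ij : Idx m × Idx m => Polynomial.C (A ij.1 ij.2))
      (C (Polynomial.C s) * q)) ^ 2 =
      Polynomial.C (s ^ 2) * (MvPolynomial.eval
        (fun ij : Idx m × Idx m => (A.map Polynomial.C) ij.1 ij.2) q) ^ 2 := by
    rw [map_mul, MvPolynomial.eval_C, mul_pow, ← map_pow]
    rfl
  rw [h2, ← h1, hs, ← mul_assoc, ← map_mul, inv_mul_cancel₀ hε, map_one, one_mul]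

end Groth.Agent.Lib.Helper6.Skew
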