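import Groth.Agent.Lib.Helper6.Skew.DetSq
import Mathlib.RingTheory.IntegralClosure.IntegrallyClosed
import Mathlib.RingTheory.Polynomial.UniqueFactorization
import Mathlib.RingTheory.Localization.FractionRing
import Mathlib.Algebra.MvPolynomial.Eval

set_option linter.unusedSectionVars false
set_option linter.unusedVariables false
set_option linter.unusedSimpArgs false
set_option autoImplicit false
set_option linter.style.haveILetI false
set_option maxHeartbeats 400000

noncomputable section

namespace Groth.Agent.Lib.Helper6.Skew

open Matrix

universe u v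

theorem isSquare_det_of_skew_domain {R : Type v} [CommRing R] [IsDomain R] [IsIntegrallyClosed R]
    (h2 : (2 : R) ≠ 0) {ι : Type u} [Fintype ι] [DecidableEq ι] (M : Matrix ι ι R)
    (hM : M.transpose = -M) : IsSquare M.det := by
  let K := FractionRing R
  have hinj : Function.Injective (algebraMap R K) := IsFractionRing.injective R K
  have h2K : (2 : K) ≠ 0 := by
    have : algebraMap R K 2 ≠ 0 := by
      rw [Ne, ← map_zero (algebraMap R K)]
      exact fun h => h2 (hinj h)
    rwa [map_ofNat] at this
  have hsk : IsSkew (M.map (algebraMap R K)) := by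
    unfold IsSkew
    ext i j
    have := congrFun (congrFun hM i) j
    simp only [Matrix.transpose_apply, Matrix.neg_apply, Matrix.map_apply] at this ⊢
    rw [this, map_neg]
  obtain ⟨x, hx⟩ := isSquare_det_of_skew h2K _ ι rfl (M.map (algebraMap R K)) hsk
  have hdet : (M.map (algebraMap R K)).det = algebraMap R K M.det := by
    rw [← RingHom.mapMatrix_apply, ← RingHom.map_det]
  rw [hdet] at hx
  have hint : IsIntegral R x := by
    apply IsIntegral.of_pow (n := 2) (by norm_num)
    rw [sq, ← hx]
    exact isIntegral_algebraMap
  obtain ⟨y, rfl⟩ := IsIntegrallyClosed.isIntegral_iff.1 hint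
  refine ⟨y, hinj ?_⟩
  rw [hx, map_mul]

end Groth.Agent.Lib.Helper6.Skew
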