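import Groth.Agent.Lib.Helper6.Skew.Generic
import Mathlib.Analysis.Complex.Basic
import Mathlib.FieldTheory.IsAlgClosed.Basic
import Mathlib.Analysis.Complex.Polynomial.Basic
import Mathlib.RingTheory.Polynomial.RationalRoot

set_option linter.unusedSectionVars false
set_option linter.unusedVariables false
set_option linter.unusedSimpArgs false
set_option autoImplicit false
set_option linter.style.haveILetI false
set_option maxHeartbeats 400000

noncomputable section

namespace Groth.Agent.Lib.Helper6.Skew

open Matrix MvPolynomial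

universe v

variable (S : Type v) [CommRing S] (m : ℕ)

/-- the index type -/
abbrev Idx (m : ℕ) := Fin m ⊕ Fin m

/-- the standard symplectic matrix -/
def Jmat : Matrix (Idx m) (Idx m) S := Matrix.fromBlocks 0 1 (-1) 0

lemma Jmat_transpose : (Jmat S m).transpose = -Jmat S m := by
  unfold Jmat
  rw [Matrix.fromBlocks_transpose, Matrix.fromBlocks_neg]
  simp

lemma Jmat_mul_neg : Jmat S m * (-Jmat S m) = 1 := by
  unfold Jmat
  rw [Matrix.fromBlocks_neg, Matrix.fromBlocks_multiply]
  simp

lemma det_Jmat_isUnit : IsUnit (Jmat S m).det := by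
  have h := congrArg Matrix.det (Jmat_mul_neg S m)
  rw [Matrix.det_mul, Matrix.det_one] at h
  exact IsUnit.of_mul_eq_one _ h

lemma Jmat_map {S' : Type*} [CommRing S'] (f : S →+* S') : (Jmat S m).map f = Jmat S' m := by
  unfold Jmat
  rw [Matrix.fromBlocks_map]
  congr 1
  · ext i j; simp
  · ext i j
    by_cases h : i = j <;> simp [Matrix.one_apply, h]
  · ext i j
    by_cases h : i = j <;> simp [Matrix.one_apply, h]
  · ext i j; simp

/-- the generic matrix -/
def Gen : Matrix (Idx m) (Idx m) (MvPolynomial (Idx m × Idx m) S) :=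
  Matrix.of fun i j => X (i, j)

/-- the generic skew matrix -/
def Mgen (t half : S) : Matrix (Idx m) (Idx m) (MvPolynomial (Idx m × Idx m) S) :=
  (C t : MvPolynomial (Idx m × Idx m) S) • Jmat (MvPolynomial (Idx m × Idx m) S) m -
    (C half : MvPolynomial (Idx m × Idx m) S) •
      (Jmat (MvPolynomial (Idx m × Idx m) S) m * Gen S m -
        (Jmat (MvPolynomial (Idx m × Idx m) S) m * Gen S m).transpose)

lemma Mgen_skew (t half : S) : (Mgen S m t half).transpose = -Mgen S m t half := by
  unfold Mgen
  rw [Matrix.transpose_sub, Matrix.transpose_smul, Matrix.transpose_smul, Matrix.transpose_sub,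
    Matrix.transpose_transpose, Jmat_transpose]
  ext i j
  simp only [Matrix.sub_apply, Matrix.smul_apply, Matrix.neg_apply, smul_eq_mul]
  ring

lemma Mgen_map_eval (t half : S) (hhalf : 2 * half = 1) (a : Matrix (Idx m) (Idx m) S)
    (ha : (Jmat S m * a).transpose = -(Jmat S m * a)) :
    (Mgen S m t half).map (MvPolynomial.eval (fun ij : Idx m × Idx m => a ij.1 ij.2)) =
      Jmat S m * (t • (1 : Matrix (Idx m) (Idx m) S) - a) := by
  have hJ : ∀ i j, (MvPolynomial.eval (fun ij : Idx m × Idx m => a ij.1 ij.2))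
      (Jmat (MvPolynomial (Idx m × Idx m) S) m i j) = Jmat S m i j := by
    intro i j
    have := congrFun (congrFun (Jmat_map (MvPolynomial (Idx m × Idx m) S) m
      (MvPolynomial.eval (fun ij : Idx m × Idx m => a ij.1 ij.2))) i) j
    simpa using this
  ext i j
  have hsk : (Jmat S m * a) j i = -(Jmat S m * a) i j := by
    have := congrFun (congrFun ha i) j
    simpa using this
  rw [Matrix.mul_sub, Matrix.mul_smul, Matrix.mul_one]
  simp only [Mgen, Matrix.map_apply, Matrix.sub_apply, Matrix.smul_apply, smul_eq_mul,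
    Matrix.transpose_apply, map_sub, map_mul, MvPolynomial.eval_C, hJ]
  have e1 : (MvPolynomial.eval (fun ij : Idx m × Idx m => a ij.1 ij.2))
      ((Jmat (MvPolynomial (Idx m × Idx m) S) m * Gen S m) i j) = (Jmat S m * a) i j := by
    rw [Matrix.mul_apply, Matrix.mul_apply, map_sum]
    apply Finset.sum_congr rfl
    intro k _
    rw [map_mul, hJ]
    simp [Gen]
  have e2 : (MvPolynomial.eval (fun ij : Idx m × Idx m => a ij.1 ij.2))
      ((Jmat (MvPolynomial (Idx m × Idx m) S) m * Gen S m) j i) = (Jmat S m * a) j i := by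
    rw [Matrix.mul_apply, Matrix.mul_apply, map_sum]
    apply Finset.sum_congr rfl
    intro k _
    rw [map_mul, hJ]
    simp [Gen]
  rw [e1, e2, hsk]
  have : half * ((Jmat S m * a) i j - -(Jmat S m * a) i j) = (2 * half) * (Jmat S m * a) i j := by
    ring
  rw [this, hhalf, one_mul]

variable [IsDomain S] [UniqueFactorizationMonoid S]

theorem exists_q (t half : S) (hhalf : 2 * half = 1) :
    ∃ q : MvPolynomial (Idx m × Idx m) S, ∀ a : Matrix (Idx m) (Idx m) S,
      (Jmat S m * a).transpose = -(Jmat S m * a) →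
      (Jmat S m).det * (t • (1 : Matrix (Idx m) (Idx m) S) - a).det =
        (MvPolynomial.eval (fun ij : Idx m × Idx m => a ij.1 ij.2) q) ^ 2 := by
  have h2 : (2 : MvPolynomial (Idx m × Idx m) S) ≠ 0 := by
    intro h
    have h' : (C (2 * half) : MvPolynomial (Idx m × Idx m) S) = 0 := by
      rw [map_mul, map_ofNat, h, zero_mul]
    rw [hhalf, map_one] at h'
    exact one_ne_zero h'
  obtain ⟨q, hq⟩ := isSquare_det_of_skew_domain h2 (Mgen S m t half) (Mgen_skew S m t half)
  refine ⟨q, fun a ha => ?_⟩
  have h1 := congrArg (MvPolynomial.eval (fun ij : Idx m × Idx m => a ij.1 ij.2)) hq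
  rw [RingHom.map_det, RingHom.mapMatrix_apply, Mgen_map_eval S m t half hhalf a ha, map_mul,
    Matrix.det_mul] at h1
  rw [h1, sq]

end Groth.Agent.Lib.Helper6.Skew
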